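import Groth.Prelude.Def_EtAlgD
import Groth.Agent.H9Hens.FlatEpi
import Groth.Agent.S7130
import Groth.Agent.S0426
import Mathlib.RingTheory.Etale.Field
import Mathlib.RingTheory.Kaehler.Basic

/-!
Weakly etale algebras over a field: these are exactly the algebras all whose elements are roots of
separable polynomials.
-/

set_option linter.style.haveILetI false

universe u

namespace Groth.Agent.H9WE

open Polynomial TensorProduct

/-- Von Neumann regularity of a commutative ring. -/
def VNR (R : Type*) [CommRing R] : Prop := ∀ a : R, ∃ c, a = a * a * c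

theorem VNR.of_surjective {R S : Type*} [CommRing R] [CommRing S] (h : VNR R) (f : R →+* S)
    (hf : Function.Surjective f) : VNR S := fun a => by
  obtain ⟨b, rfl⟩ := hf a
  obtain ⟨c, hc⟩ := h b
  exact ⟨f c, by rw [← map_mul, ← map_mul, ← hc]⟩

theorem VNR.flat {R : Type u} [CommRing R] (h : VNR R) (M : Type u) [AddCommGroup M] [Module R M] :
    Module.Flat R M := by
  have key : (IsReduced R ∧ ∀ p : Ideal R, p.IsPrime → p.IsMaximal) →
      ∀ (M : Type u) [AddCommGroup M] [Module R M], Module.Flat R M := ((S7130.result R).out 1 0).mp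
  refine key ⟨(isReduced_iff_pow_one_lt 2 Nat.one_lt_two).mpr fun a ha => ?_, fun p hp => ?_⟩ M
  · obtain ⟨c, hc⟩ := h a
    rw [hc, ← sq, ha, zero_mul]
  · rw [Ideal.isMaximal_iff]
    refine ⟨fun h1 => hp.ne_top ((Ideal.eq_top_iff_one p).mpr h1), fun J a hJ haP haJ => ?_⟩
    obtain ⟨c, hc⟩ := h a
    have : a * (1 - a * c) ∈ p := by
      rw [show a * (1 - a * c) = a - a * a * c by ring, ← hc, sub_self]; exact zero_mem _
    rw [show (1 : R) = (1 - a * c) + a * c by ring]
    exact add_mem (hJ ((hp.mem_or_mem this).resolve_left haP)) (J.mul_mem_right _ haJ)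

theorem vnr_of_forall_flat {R : Type u} [CommRing R]
    (h : ∀ (M : Type u) [AddCommGroup M] [Module R M], Module.Flat R M) : VNR R := fun a => by
  haveI : (Ideal.span {a}).Pure := h _
  have : a ∈ Ideal.span {a} * Ideal.span {a} := by
    rw [Ideal.isIdempotentElem_of_pure (Ideal.span {a})]
    exact Ideal.mem_span_singleton_self a
  rw [Ideal.span_singleton_mul_span_singleton, Ideal.mem_span_singleton] at this
  exact this

variable {K : Type u} [Field K] {B : Type u} [CommRing B] [Algebra K B]

theorem vnr_of_weaklyEtale (K B : Type u) [Field K] [CommRing B] [Algebra K B]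
    [Algebra.WeaklyEtale K B] : VNR B :=
  vnr_of_forall_flat fun M _ _ => by
    letI : Module K M := Module.compHom M (algebraMap K B)
    haveI : IsScalarTower K B M := IsScalarTower.of_algebraMap_smul fun _ _ => rfl
    exact H9Hens.flat_of_restrictScalars_of_flat_lmul' K B (Algebra.WeaklyEtale.flat_lmul' K B) M

theorem weaklyEtale_of_vnr_tensor (h : VNR (B ⊗[K] B)) : Algebra.WeaklyEtale K B where
  flat_lmul' := by
    algebraize [(Algebra.TensorProduct.lmul' K (S := B)).toRingHom]
    exact h.flat B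

theorem weaklyEtale_of_surjective {C : Type u} [CommRing C] [Algebra K C] [Algebra.WeaklyEtale K B]
    (f : B →ₐ[K] C) (hf : Function.Surjective f) : Algebra.WeaklyEtale K C := by
  haveI : Algebra.WeaklyEtale K (B ⊗[K] B) := Algebra.WeaklyEtale.trans K B (B ⊗[K] B)
  exact weaklyEtale_of_vnr_tensor ((vnr_of_weaklyEtale K (B ⊗[K] B)).of_surjective
    (Algebra.TensorProduct.map f f).toRingHom (TensorProduct.map_surjective hf hf))

variable (K) in
/-- `b` is a root of a separable polynomial over `K`. -/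
def IsSep (b : B) : Prop := ∃ P : K[X], P.Separable ∧ aeval b P = 0

theorem IsSep.map {C : Type u} [CommRing C] [Algebra K C] {b : B} (h : IsSep K b) (f : B →ₐ[K] C) :
    IsSep K (f b) := by
  obtain ⟨P, hP, hb⟩ := h
  exact ⟨P, hP, by rw [aeval_algHom_apply, hb, map_zero]⟩

theorem IsSep.of_injective {C : Type u} [CommRing C] [Algebra K C] {b : B} (f : B →ₐ[K] C)
    (hf : Function.Injective f) (h : IsSep K (f b)) : IsSep K b := by
  obtain ⟨P, hP, hb⟩ := h
  exact ⟨P, hP, hf (by rw [← aeval_algHom_apply, hb, map_zero])⟩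

theorem isSep_of_weaklyEtale (K : Type u) {B : Type u} [Field K] [CommRing B] [Algebra K B]
    [Algebra.WeaklyEtale K B] (b : B) : IsSep K b := by
  classical
  let Good : Finset K[X] → Prop := fun s => ∀ p ∈ s, p.Monic ∧ Irreducible p ∧ p.Separable
  let I : Ideal B :=
    { carrier := {c | ∃ s, Good s ∧ c * aeval b (∏ p ∈ s, p) = 0}
      zero_mem' := ⟨∅, fun _ h => absurd h (Finset.notMem_empty _), by simp⟩
      add_mem' := by
        rintro c d ⟨s, hs, hc⟩ ⟨t, ht, hd⟩
        refine ⟨s ∪ t, fun p hp => (Finset.mem_union.mp hp).elim (hs p) (ht p), ?_⟩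
        have h1 : ∀ (r : Finset K[X]) (x : B), r ⊆ s ∪ t → x * aeval b (∏ p ∈ r, p) = 0 →
            x * aeval b (∏ p ∈ s ∪ t, p) = 0 := fun r x hr hx => by
          rw [← Finset.prod_sdiff hr, map_mul, mul_left_comm, hx, mul_zero]
        rw [add_mul, h1 s c Finset.subset_union_left hc, h1 t d Finset.subset_union_right hd, add_zero]
      smul_mem' := by
        rintro x c ⟨s, hs, hc⟩
        exact ⟨s, hs, by rw [smul_eq_mul, mul_assoc, hc, mul_zero]⟩ }
  have hI : I = ⊤ := by
    by_contra hne
    obtain ⟨q, hq, hIq⟩ := Ideal.exists_le_maximal I hne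
    letI := Ideal.Quotient.field q
    haveI : Algebra.WeaklyEtale K (B ⧸ q) :=
      weaklyEtale_of_surjective (Ideal.Quotient.mkₐ K q) Ideal.Quotient.mk_surjective
    haveI : Algebra.IsSeparable K (B ⧸ q) := S0426.result
    let x := Ideal.Quotient.mkₐ K q b
    have hx : IsSeparable K x := Algebra.IsSeparable.isSeparable K x
    let p := minpoly K x
    have hpq : aeval b p ∈ q := by
      rw [← Ideal.Quotient.eq_zero_iff_mem]
      show Ideal.Quotient.mkₐ K q (aeval b p) = 0
      rw [← aeval_algHom_apply]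
      exact minpoly.aeval K x
    obtain ⟨c, hc⟩ := vnr_of_weaklyEtale K B (aeval b p)
    refine hq.ne_top ((Ideal.eq_top_iff_one q).mpr ?_)
    rw [show (1 : B) = (1 - c * aeval b p) + c * aeval b p by ring]
    refine add_mem (hIq ⟨{p}, fun r hr => ?_, ?_⟩) (q.mul_mem_left _ hpq)
    · rw [Finset.mem_singleton] at hr
      subst hr
      exact ⟨minpoly.monic hx.isIntegral, minpoly.irreducible hx.isIntegral, hx⟩
    · rw [Finset.prod_singleton, show (1 - c * aeval b p) * aeval b p =
        aeval b p - aeval b p * aeval b p * c by ring, ← hc, sub_self]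
  obtain ⟨s, hs, h1⟩ : (1 : B) ∈ I := hI ▸ Submodule.mem_top
  refine ⟨∏ p ∈ s, p, separable_prod' (fun p hp r hr hne => ?_) fun p hp => (hs p hp).2.2, by
    rwa [one_mul] at h1⟩
  refine (hs p hp).2.1.coprime_iff_not_dvd.mpr fun h => hne ?_
  exact eq_of_monic_of_associated (hs p hp).1 (hs r hr).1
    ((hs p hp).2.1.associated_of_dvd (hs r hr).2.1 h)

theorem etale_adjoin_of_isSep {s : Set B} (hs : s.Finite) (h : ∀ b ∈ s, IsSep K b) :
    Algebra.Etale K (Algebra.adjoin K s) := by
  let A := Algebra.adjoin K s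
  haveI hft : Algebra.FiniteType K A :=
    A.fg_iff_finiteType.mp ⟨hs.toFinset, by rw [hs.coe_toFinset]⟩
  haveI : Algebra.FinitePresentation K A := Algebra.FinitePresentation.of_finiteType.mp hft
  have hD : KaehlerDifferential.D K A = 0 := by
    refine Derivation.ext fun x => ?_
    obtain ⟨x, hx⟩ := x
    induction hx using Algebra.adjoin_induction with
    | mem x hx =>
      obtain ⟨P, hP, hP0⟩ := h x hx
      let y : A := ⟨x, Algebra.subset_adjoin hx⟩
      have hy : aeval y P = 0 := Subtype.ext (by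
        rw [← Subalgebra.coe_val, ← aeval_algHom_apply]
        exact hP0)
      obtain ⟨u, v, huv⟩ := hP
      have h1 : (KaehlerDifferential.D K A) (aeval y P) =
          aeval y (derivative P) • (KaehlerDifferential.D K A) y :=
        Derivation.map_aeval _ _ _
      rw [hy, map_zero] at h1
      have h2 := congrArg (aeval y) huv
      rw [map_add, map_mul, map_mul, hy, mul_zero, zero_add, map_one] at h2
      show (KaehlerDifferential.D K A) y = 0
      rw [← one_smul A ((KaehlerDifferential.D K A) y), ← h2, mul_smul, ← h1, smul_zero]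
    | algebraMap r => exact (KaehlerDifferential.D K A).map_algebraMap r
    | add x y hx hy ihx ihy =>
      have := map_add (KaehlerDifferential.D K A) (⟨x, hx⟩ : A) ⟨y, hy⟩
      simp only [Derivation.zero_apply] at ihx ihy ⊢
      rw [ihx, ihy, add_zero] at this
      exact this
    | mul x y hx hy ihx ihy =>
      have := Derivation.leibniz (KaehlerDifferential.D K A) (⟨x, hx⟩ : A) ⟨y, hy⟩
      simp only [Derivation.zero_apply] at ihx ihy ⊢
      rw [ihx, ihy, smul_zero, smul_zero, add_zero] at this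
      exact this
  haveI : Algebra.FormallyUnramified K A := by
    rw [Algebra.formallyUnramified_iff]
    refine subsingleton_of_forall_eq 0 fun w => ?_
    have h1 : w ∈ Submodule.span A (Set.range (KaehlerDifferential.D K A)) := by
      rw [KaehlerDifferential.span_range_derivation]; trivial
    rw [hD] at h1
    simpa [Submodule.span_zero_singleton] using h1
  haveI := Algebra.FormallyEtale.of_formallyUnramified_of_field K A
  exact ⟨inferInstance, inferInstance⟩

theorem isSep_of_mem_adjoin {s : Set B} (h : ∀ b ∈ s, IsSep K b) {x : B}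
    (hx : x ∈ Algebra.adjoin K s) : IsSep K x ∧ ∃ c, x = x * x * c := by
  obtain ⟨t, ht, hxt⟩ : ∃ t : Finset B, (↑t : Set B) ⊆ s ∧ x ∈ Algebra.adjoin K (t : Set B) := by
    classical
    induction hx using Algebra.adjoin_induction with
    | mem x hx => exact ⟨{x}, by simpa using hx, Algebra.subset_adjoin (by simp)⟩
    | algebraMap r => exact ⟨∅, by simp, Subalgebra.algebraMap_mem _ r⟩
    | add x y _ _ ihx ihy =>
      obtain ⟨t, ht, hx⟩ := ihx
      obtain ⟨t', ht', hy⟩ := ihy
      exact ⟨t ∪ t', by simp [ht, ht'],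
        add_mem (Algebra.adjoin_mono (by simp) hx) (Algebra.adjoin_mono (by simp) hy)⟩
    | mul x y _ _ ihx ihy =>
      obtain ⟨t, ht, hx⟩ := ihx
      obtain ⟨t', ht', hy⟩ := ihy
      exact ⟨t ∪ t', by simp [ht, ht'],
        mul_mem (Algebra.adjoin_mono (by simp) hx) (Algebra.adjoin_mono (by simp) hy)⟩
  haveI := etale_adjoin_of_isSep t.finite_toSet fun b hb => h b (ht hb)
  refine ⟨(isSep_of_weaklyEtale K (⟨x, hxt⟩ : Algebra.adjoin K (t : Set B))).map (Subalgebra.val _), ?_⟩
  obtain ⟨c, hc⟩ := vnr_of_weaklyEtale K (Algebra.adjoin K (t : Set B)) ⟨x, hxt⟩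
  exact ⟨c, congrArg Subtype.val hc⟩

theorem weaklyEtale_iff_forall_isSep : Algebra.WeaklyEtale K B ↔ ∀ b : B, IsSep K b := by
  refine ⟨fun _ => isSep_of_weaklyEtale K, fun h => weaklyEtale_of_vnr_tensor fun z => ?_⟩
  let s : Set (B ⊗[K] B) := Set.range (Algebra.TensorProduct.includeLeft : B →ₐ[K] B ⊗[K] B) ∪
    Set.range (Algebra.TensorProduct.includeRight : B →ₐ[K] B ⊗[K] B)
  have hs : ∀ y ∈ s, IsSep K y := by
    rintro y (⟨b, rfl⟩ | ⟨b, rfl⟩) <;> exact (h b).map _
  refine (isSep_of_mem_adjoin hs ?_).2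
  induction z with
  | zero => exact zero_mem _
  | tmul a b =>
    rw [show a ⊗ₜ[K] b = (a ⊗ₜ[K] (1 : B)) * ((1 : B) ⊗ₜ[K] b) by
      rw [Algebra.TensorProduct.tmul_mul_tmul, mul_one, one_mul]]
    exact mul_mem (Algebra.subset_adjoin (Or.inl ⟨a, rfl⟩)) (Algebra.subset_adjoin (Or.inr ⟨b, rfl⟩))
  | add x y hx hy => exact add_mem hx hy

theorem isSep_add {a b : B} (ha : IsSep K a) (hb : IsSep K b) : IsSep K (a + b) :=
  (isSep_of_mem_adjoin (s := {a, b}) (by rintro _ (rfl | rfl) <;> assumption)
    (add_mem (Algebra.subset_adjoin (Or.inl rfl)) (Algebra.subset_adjoin (Or.inr rfl)))).1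

variable (K B) in
/-- The subalgebra of elements which are roots of separable polynomials. -/
def sepSubalgebra : Subalgebra K B where
  carrier := {b | IsSep K b}
  add_mem' := isSep_add
  mul_mem' {a b} ha hb :=
    (isSep_of_mem_adjoin (s := {a, b}) (by rintro _ (rfl | rfl) <;> assumption)
      (mul_mem (Algebra.subset_adjoin (Or.inl rfl)) (Algebra.subset_adjoin (Or.inr rfl)))).1
  algebraMap_mem' r := (isSep_of_mem_adjoin (s := (∅ : Set B)) (fun _ h => h.elim)
    (Subalgebra.algebraMap_mem _ r)).1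

theorem weaklyEtale_subalgebra_iff {S : Subalgebra K B} :
    Algebra.WeaklyEtale K S ↔ S ≤ sepSubalgebra K B := by
  refine weaklyEtale_iff_forall_isSep.trans
    ⟨fun h x hx => (h ⟨x, hx⟩).map S.val, fun h x => ?_⟩
  exact IsSep.of_injective S.val Subtype.val_injective (h x.2)

theorem maxWeaklyEtale_eq : EtAlgD.maxWeaklyEtale K B = sepSubalgebra K B :=
  le_antisymm (sSup_le fun _ h => weaklyEtale_subalgebra_iff.mp h)
    (le_sSup (weaklyEtale_subalgebra_iff.mpr le_rfl))

theorem mem_maxWeaklyEtale {b : B} : b ∈ EtAlgD.maxWeaklyEtale K B ↔ IsSep K b := by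
  rw [maxWeaklyEtale_eq]; rfl

end Groth.Agent.H9WE
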