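import Groth.Agent.H9WE.Field
import Groth.Agent.H19Grp.AlgClosedGeom

/-!
# The maximal weakly étale subalgebra commutes with extensions of the base field
-/

set_option linter.style.haveILetI false

universe u

namespace Groth.Agent.H9WE.BaseChange

open TensorProduct Polynomial PrimeSpectrum

/-- Over an algebraically closed field, idempotents of `A ⊗ Ω` come from `A`. -/
theorem idempotent_of_isAlgClosed {F A Ω : Type u} [Field F] [IsAlgClosed F] [CommRing A] [Algebra F A]
    [Field Ω] [Algebra F Ω] {e : A ⊗[F] Ω} (he : IsIdempotentElem e) :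
    ∃ e₀ : A, e = e₀ ⊗ₜ[F] (1 : Ω) := by
  classical
  let f := comap (algebraMap A (A ⊗[F] Ω))
  have hconst : ∀ q q' : PrimeSpectrum (A ⊗[F] Ω), f q = f q' → (e ∈ q.asIdeal ↔ e ∈ q'.asIdeal) := by
    intro q q' hqq
    let p := (f q).asIdeal
    haveI : p.IsPrime := (f q).isPrime
    let ψ := Algebra.TensorProduct.map (Ideal.Quotient.mkₐ F p) (AlgHom.id F Ω)
    have hker : ∀ r : PrimeSpectrum (A ⊗[F] Ω), (f r).asIdeal = p → RingHom.ker ψ ≤ r.asIdeal := by
      intro r hr
      rw [Algebra.TensorProduct.rTensor_ker _ (Ideal.Quotient.mkₐ_surjective F p), Ideal.map_le_iff_le_comap]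
      intro a ha
      rw [RingHom.mem_ker, Ideal.Quotient.mkₐ_eq_mk, Ideal.Quotient.eq_zero_iff_mem] at ha
      exact (hr ▸ ha : a ∈ (f r).asIdeal)
    haveI : IsDomain ((A ⧸ p) ⊗[F] Ω) := H19Grp.isDomain_tensorProduct _ _
    rcases IsIdempotentElem.iff_eq_zero_or_one.mp (he.map ψ) with h | h
    · exact iff_of_true (hker q rfl (RingHom.mem_ker.mpr h))
        (hker q' (congrArg PrimeSpectrum.asIdeal hqq).symm (RingHom.mem_ker.mpr h))
    · have h1 : ∀ r : PrimeSpectrum (A ⊗[F] Ω), (f r).asIdeal = p → e ∉ r.asIdeal := by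
        intro r hr her
        have h2 : (1 - e) ∈ r.asIdeal := hker r hr (RingHom.mem_ker.mpr (by rw [map_sub, map_one, h, sub_self]))
        have h3 := add_mem h2 her
        rw [sub_add_cancel] at h3
        exact r.isPrime.ne_top ((Ideal.eq_top_iff_one _).mpr h3)
      exact iff_of_false (h1 q rfl) (h1 q' (congrArg PrimeSpectrum.asIdeal hqq).symm)
  let C : Set (PrimeSpectrum (A ⊗[F] Ω)) := (PrimeSpectrum.basicOpen e : Set _)
  have hC : IsClopen C := isClopen_iff_mul_add.mpr
    ⟨e, 1 - e, he.mul_one_sub_self, by rw [add_sub_cancel], rfl⟩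
  have hpre : f ⁻¹' (f '' C) = C := by
    refine Set.Subset.antisymm ?_ (Set.subset_preimage_image f C)
    rintro q ⟨q', hq', hqq⟩
    exact fun hq => hq' ((hconst q' q hqq).mpr hq)
  have hsurj : Function.Surjective f := PrimeSpectrum.comap_surjective_of_faithfullyFlat
  have hU : IsClopen (f '' C) := by
    refine ⟨isOpen_compl_iff.mp ?_, isOpenMap_comap_algebraMap_tensorProduct_of_field C hC.isOpen⟩
    have : (f '' C)ᶜ = f '' Cᶜ := by
      conv_rhs => rw [← hpre, ← Set.preimage_compl, Set.image_preimage_eq _ hsurj]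
    rw [this]
    exact isOpenMap_comap_algebraMap_tensorProduct_of_field _ hC.compl.isOpen
  obtain ⟨e₀, he₀, hUe⟩ := exists_idempotent_basicOpen_eq_of_isClopen hU
  refine ⟨e₀, PrimeSpectrum.basicOpen_injOn_isIdempotentElem he
    (he₀.map (algebraMap A (A ⊗[F] Ω))) (SetLike.ext' ?_)⟩
  show C = _
  rw [← hpre, hUe]
  ext q
  rfl

section InS

variable (K : Type u) [Field K] {A : Type u} [CommRing A] [Algebra K A]

/-- `x ∈ C ⊗ S`, where `S` is the subalgebra of separable elements. -/
def InS {C : Type u} [CommRing C] [Algebra K C] (x : C ⊗[K] A) : Prop :=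
  x ∈ LinearMap.range ((sepSubalgebra K A).val.toLinearMap.lTensor C)

variable {K}

theorem InS.map {C D : Type u} [CommRing C] [Algebra K C] [CommRing D] [Algebra K D] (g : C →ₐ[K] D)
    {x : C ⊗[K] A} (hx : InS K x) : InS K (Algebra.TensorProduct.map g (AlgHom.id K A) x) := by
  obtain ⟨z, rfl⟩ := hx
  refine ⟨g.toLinearMap.rTensor _ z, ?_⟩
  show _ = g.toLinearMap.rTensor A _
  rw [← LinearMap.comp_apply, ← LinearMap.comp_apply, LinearMap.lTensor_comp_rTensor,
    LinearMap.rTensor_comp_lTensor]

theorem InS.of_map {C D : Type u} [CommRing C] [Algebra K C] [CommRing D] [Algebra K D] (g : C →ₐ[K] D)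
    (hg : Function.Injective g) {x : C ⊗[K] A}
    (hx : InS K (Algebra.TensorProduct.map g (AlgHom.id K A) x)) : InS K x := by
  let W := LinearMap.range (sepSubalgebra K A).val.toLinearMap
  have hex : Function.Exact (sepSubalgebra K A).val.toLinearMap W.mkQ :=
    LinearMap.exact_iff.mpr (Submodule.ker_mkQ W)
  refine ((lTensor_exact C hex W.mkQ_surjective) x).mp
    (Module.Flat.rTensor_preserves_injective_linearMap (M := A ⧸ W) g.toLinearMap hg ?_)
  rw [map_zero, ← ((lTensor_exact D hex W.mkQ_surjective) _).mpr hx]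
  show g.toLinearMap.rTensor (A ⧸ W) (W.mkQ.lTensor C x) = W.mkQ.lTensor D (g.toLinearMap.rTensor A x)
  rw [← LinearMap.comp_apply, ← LinearMap.comp_apply, LinearMap.lTensor_comp_rTensor,
    LinearMap.rTensor_comp_lTensor]

theorem isSep_of_idempotent {B : Type u} [CommRing B] [Algebra K B] {e : B} (he : IsIdempotentElem e) :
    IsSep K e := by
  refine ⟨X ^ 2 - X, ⟨C (-4), C 2 * X - C 1, ?_⟩, ?_⟩
  · simp only [derivative_sub, derivative_X_pow, derivative_X, map_neg, map_one, Nat.cast_ofNat]
    rw [show (C (4 : K)) = (4 : K[X]) from map_ofNat C 4, show (C (2 : K)) = (2 : K[X]) from map_ofNat C 2]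
    ring
  · simp [sq, he.eq]

/-- Finite Galois step. -/
theorem inS_of_finiteGalois {L : Type u} [Field L] [Algebra K L] [FiniteDimensional K L] [IsGalois K L]
    {e : L ⊗[K] A} (he : IsIdempotentElem e) : InS K e := by
  classical
  let b := Module.finBasis K L
  let hT : (Algebra.traceForm K L).Nondegenerate := traceForm_nondegenerate K L
  let b' := (Algebra.traceForm K L).dualBasis hT b
  let coef : Fin (Module.finrank K L) → L ⊗[K] A →ₗ[K] A := fun i =>
    (TensorProduct.lid K A).toLinearMap ∘ₗ (Algebra.trace K L).rTensor A ∘ₗ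
      LinearMap.mulLeft K (b i ⊗ₜ[K] (1 : A))
  have hrec : ∀ z : L ⊗[K] A, ∑ i, b' i ⊗ₜ[K] coef i z = z := fun z => by
    induction z with
    | zero => simp
    | add x y hx hy => simp only [map_add, tmul_add, Finset.sum_add_distrib, hx, hy]
    | tmul c a =>
      have hc : ∑ i, Algebra.trace K L (b i * c) • b' i = c := by
        conv_rhs => rw [← b'.sum_repr c]
        refine Finset.sum_congr rfl fun i _ => ?_
        rw [LinearMap.BilinForm.dualBasis_repr_apply, Algebra.traceForm_apply, mul_comm]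
      conv_rhs => rw [← hc]
      rw [sum_tmul]
      refine Finset.sum_congr rfl fun i _ => ?_
      simp [coef, Algebra.TensorProduct.tmul_mul_tmul, smul_tmul, tmul_smul]
  have hinc : Function.Injective (Algebra.TensorProduct.includeRight : A →ₐ[K] L ⊗[K] A) :=
    Algebra.TensorProduct.includeRight_injective (algebraMap K L).injective
  have hmem : ∀ i, coef i e ∈ sepSubalgebra K A := by
    intro i
    refine IsSep.of_injective _ hinc ?_
    have hsum : ∀ z : L ⊗[K] A, (1 : L) ⊗ₜ[K] (TensorProduct.lid K A ((Algebra.trace K L).rTensor A z)) =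
        ∑ σ : L ≃ₐ[K] L, Algebra.TensorProduct.map σ.toAlgHom (AlgHom.id K A) z := fun z => by
      induction z with
      | zero => simp
      | add x y hx hy => simp only [map_add, tmul_add, Finset.sum_add_distrib, hx, hy]
      | tmul c a =>
        simp only [LinearMap.rTensor_tmul, lid_tmul, Algebra.TensorProduct.map_tmul, AlgHom.id_apply,
          ← sum_tmul]
        rw [← TensorProduct.smul_tmul, Algebra.smul_def, mul_one, trace_eq_sum_automorphisms]
        rfl
    show IsSep K ((1 : L) ⊗ₜ[K] coef i e)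
    rw [show coef i e = TensorProduct.lid K A ((Algebra.trace K L).rTensor A ((b i ⊗ₜ[K] (1 : A)) * e)) from rfl,
      hsum]
    refine (sum_mem fun σ _ => ?_ : _ ∈ sepSubalgebra K (L ⊗[K] A))
    show IsSep K _
    refine IsSep.map ((sepSubalgebra K (L ⊗[K] A)).mul_mem ?_ (isSep_of_idempotent he)) _
    show IsSep K ((Algebra.TensorProduct.includeLeft : L →ₐ[K] L ⊗[K] A) (b i))
    exact IsSep.map ⟨minpoly K (b i), Algebra.IsSeparable.isSeparable K (b i), minpoly.aeval _ _⟩ _
  rw [← hrec e]
  exact Submodule.sum_mem _ fun i _ => ⟨b' i ⊗ₜ[K] ⟨_, hmem i⟩, rfl⟩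

theorem exists_finset_intermediateField {F : Type u} [Field F] [Algebra K F] (x : F ⊗[K] A) :
    ∃ s : Finset F, ∀ L : IntermediateField K F, (↑s : Set F) ⊆ L →
      x ∈ Set.range (Algebra.TensorProduct.map L.val (AlgHom.id K A)) := by
  classical
  induction x with
  | zero => exact ⟨∅, fun L _ => ⟨0, map_zero _⟩⟩
  | tmul c a => exact ⟨{c}, fun L hL => ⟨⟨c, hL (by simp)⟩ ⊗ₜ[K] a, rfl⟩⟩
  | add x y hx hy =>
    obtain ⟨s, hs⟩ := hx
    obtain ⟨t, ht⟩ := hy
    refine ⟨s ∪ t, fun L hL => ?_⟩
    rw [Finset.coe_union, Set.union_subset_iff] at hL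
    obtain ⟨a, rfl⟩ := hs L hL.1
    obtain ⟨b, rfl⟩ := ht L hL.2
    exact ⟨a + b, map_add _ _ _⟩

/-- Galois step. -/
theorem inS_of_isGalois {L : Type u} [Field L] [Algebra K L] [IsGalois K L]
    {e : L ⊗[K] A} (he : IsIdempotentElem e) : InS K e := by
  obtain ⟨s, hs⟩ := exists_finset_intermediateField e
  let E := FiniteGaloisIntermediateField.adjoin K (↑s : Set L)
  obtain ⟨e', rfl⟩ := hs E.toIntermediateField (FiniteGaloisIntermediateField.subset_adjoin K _)
  have hinj : Function.Injective (Algebra.TensorProduct.map E.toIntermediateField.val (AlgHom.id K A)) :=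
    Module.Flat.rTensor_preserves_injective_linearMap (M := A) E.toIntermediateField.val.toLinearMap
      Subtype.val_injective
  refine InS.map _ (inS_of_finiteGalois (hinj ?_))
  rw [map_mul]; exact he

/-- Algebraic closure step. -/
theorem inS_of_isAlgClosure {F : Type u} [Field F] [Algebra K F] [IsAlgClosure K F]
    {e : F ⊗[K] A} (he : IsIdempotentElem e) : InS K e := by
  classical
  haveI : Algebra.IsAlgebraic K F := IsAlgClosure.isAlgebraic
  haveI : Normal K F := IsAlgClosure.normal K F
  rcases subsingleton_or_nontrivial A with hA | hA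
  · exact ⟨0, by rw [map_zero]; exact (Subsingleton.elim (0 : F ⊗[K] A) e)⟩
  let q := ringExpChar K
  let E := separableClosure K F
  haveI : IsPurelyInseparable E F := separableClosure.isPurelyInseparable K F
  haveI : ExpChar K q := inferInstance
  haveI : ExpChar E q := expChar_of_injective_algebraMap (algebraMap K E).injective q
  haveI : Nontrivial (F ⊗[K] A) :=
    (Algebra.TensorProduct.includeRight_injective (B := A) (algebraMap K F).injective).nontrivial
  haveI : ExpChar (F ⊗[K] A) q := expChar_of_injective_algebraMap (algebraMap K (F ⊗[K] A)).injective q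
  let j := Algebra.TensorProduct.map E.val (AlgHom.id K A)
  have hpow : ∀ x : F ⊗[K] A, ∃ n, ∀ m, n ≤ m → x ^ q ^ m ∈ j.range := fun x => by
    induction x with
    | zero => exact ⟨0, fun m _ => by rw [zero_pow (pow_ne_zero _ (expChar_pos K q).ne')]; exact zero_mem _⟩
    | tmul c a =>
      obtain ⟨n, d, hd⟩ := IsPurelyInseparable.pow_mem E q c
      refine ⟨n, fun m hm => ⟨(d ^ q ^ (m - n)) ⊗ₜ[K] (a ^ q ^ m), ?_⟩⟩
      have hc : (d : F) = c ^ q ^ n := hd
      show ((d : F) ^ q ^ (m - n)) ⊗ₜ[K] (a ^ q ^ m) = _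
      rw [hc, ← pow_mul, ← pow_add, Nat.add_sub_cancel' hm, Algebra.TensorProduct.tmul_pow]
    | add x y hx hy =>
      obtain ⟨n, hn⟩ := hx
      obtain ⟨n', hn'⟩ := hy
      refine ⟨max n n', fun m hm => ?_⟩
      rw [add_pow_expChar_pow]
      exact add_mem (hn m (le_trans (le_max_left _ _) hm)) (hn' m (le_trans (le_max_right _ _) hm))
  obtain ⟨n, hn⟩ := hpow e
  have h0 : q ^ n ≠ 0 := pow_ne_zero _ (expChar_pos K q).ne'
  obtain ⟨k, hk⟩ := Nat.exists_eq_succ_of_ne_zero h0
  obtain ⟨e', he'⟩ := hn n le_rfl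
  rw [hk, he.pow_succ_eq] at he'
  subst he'
  have hinj : Function.Injective j :=
    Module.Flat.rTensor_preserves_injective_linearMap (M := A) E.val.toLinearMap Subtype.val_injective
  refine InS.map _ (inS_of_isGalois (hinj ?_))
  rw [map_mul]; exact he

/-- General idempotent step. -/
theorem inS_of_idempotent {Ω : Type u} [Field Ω] [Algebra K Ω] [IsAlgClosed Ω]
    {e : Ω ⊗[K] A} (he : IsIdempotentElem e) : InS K e := by
  let F := AlgebraicClosure K
  let g : F →ₐ[K] Ω := IsAlgClosed.lift
  letI : Algebra F Ω := g.toRingHom.toAlgebra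
  haveI : IsScalarTower K F Ω := IsScalarTower.of_algebraMap_eq fun x => (g.commutes x).symm
  let φ := (Algebra.TensorProduct.comm F (F ⊗[K] A) Ω).toRingEquiv.trans
    (Algebra.TensorProduct.cancelBaseChange K F Ω Ω A).toRingEquiv
  obtain ⟨e₀, he₀⟩ := idempotent_of_isAlgClosed (F := F) (A := F ⊗[K] A) (Ω := Ω) (he.map φ.symm)
  have hφ : ∀ z : F ⊗[K] A, φ (z ⊗ₜ[F] (1 : Ω)) = Algebra.TensorProduct.map g (AlgHom.id K A) z := fun z => by
    induction z with
    | zero => rw [zero_tmul, map_zero, map_zero]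
    | tmul c a =>
      show Algebra.TensorProduct.cancelBaseChange K F Ω Ω A ((1 : Ω) ⊗ₜ[F] (c ⊗ₜ[K] a)) = _
      rw [Algebra.TensorProduct.cancelBaseChange_tmul, Algebra.TensorProduct.map_tmul, Algebra.smul_def,
        mul_one]
      rfl
    | add x y hx hy => rw [add_tmul, map_add, map_add, hx, hy]
  have he' : e = Algebra.TensorProduct.map g (AlgHom.id K A) e₀ := by
    rw [← hφ, ← he₀, φ.apply_symm_apply]
  have hinj : Function.Injective (Algebra.TensorProduct.map g (AlgHom.id K A)) :=
    Module.Flat.rTensor_preserves_injective_linearMap (M := A) g.toLinearMap g.toRingHom.injective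
  subst he'
  refine InS.map g (inS_of_isAlgClosure (hinj ?_))
  rw [map_mul]; exact he

/-- Separable elements over a bigger field. -/
theorem inS_of_isSep {L : Type u} [Field L] [Algebra K L] {x : L ⊗[K] A} (hx : IsSep L x) : InS K x := by
  classical
  let Ω := AlgebraicClosure L
  let g : L →ₐ[K] Ω := IsScalarTower.toAlgHom K L Ω
  refine InS.of_map g g.toRingHom.injective ?_
  let gL : L ⊗[K] A →ₐ[L] Ω ⊗[K] A := Algebra.TensorProduct.map (Algebra.ofId L Ω) (AlgHom.id K A)
  obtain ⟨P, hP, hP0⟩ := hx.map gL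
  show InS K (gL x)
  generalize gL x = y at hP0 ⊢
  let Q := P.map (algebraMap L Ω)
  have hQ : Q.Separable := hP.map
  have hQ0 : aeval y Q = 0 := by rw [aeval_map_algebraMap]; exact hP0
  have hsplit : Q.Splits := IsAlgClosed.splits Q
  let s := Q.roots.toFinset
  have hs : Set.InjOn (id : Ω → Ω) s := Function.injective_id.injOn
  have hdvd : ∀ R : Polynomial Ω, (∀ a ∈ s, R.eval a = 0) → aeval y R = 0 := fun R hR => by
    rcases eq_or_ne R 0 with rfl | hR0
    · exact map_zero _
    obtain ⟨S, rfl⟩ : Q ∣ R := hsplit.dvd_of_roots_le_roots hQ.ne_zero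
      ((Multiset.le_iff_subset (nodup_roots hQ)).mpr fun a ha =>
        (mem_roots hR0).mpr (hR a (Multiset.mem_toFinset.mpr ha)))
    rw [map_mul, hQ0, zero_mul]
  have hid : ∀ a ∈ s, IsIdempotentElem (aeval y (Lagrange.basis s id a)) := fun a ha => by
    refine sub_eq_zero.mp ?_
    rw [← map_mul, ← map_sub]
    refine hdvd _ fun c hc => ?_
    rcases eq_or_ne a c with rfl | hac
    · simp [show (Lagrange.basis s id a).eval a = 1 from Lagrange.eval_basis_self hs ha]
    · simp [show (Lagrange.basis s id a).eval c = 0 from Lagrange.eval_basis_of_ne (v := id) hac hc]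
  have hy : y = ∑ a ∈ s, a • aeval y (Lagrange.basis s id a) := by
    refine sub_eq_zero.mp ?_
    calc y - ∑ a ∈ s, a • aeval y (Lagrange.basis s id a)
        = aeval y (X - ∑ a ∈ s, a • Lagrange.basis s id a) := by simp [map_sum]
      _ = 0 := hdvd _ fun c hc => by
        rw [eval_sub, eval_X, eval_finsetSum, Finset.sum_eq_single c]
        · simp [show (Lagrange.basis s id c).eval c = 1 from Lagrange.eval_basis_self hs hc]
        · intro a _ hac
          simp [show (Lagrange.basis s id a).eval c = 0 from Lagrange.eval_basis_of_ne (v := id) hac hc]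
        · exact fun h => (h hc).elim
  rw [hy]
  refine Submodule.sum_mem _ fun a ha => ?_
  obtain ⟨z, hz⟩ := inS_of_idempotent (hid a ha)
  have hlin : ∀ w : Ω ⊗[K] sepSubalgebra K A, (sepSubalgebra K A).val.toLinearMap.lTensor Ω (a • w) =
      a • (sepSubalgebra K A).val.toLinearMap.lTensor Ω w := fun w => by
    induction w with
    | zero => simp
    | tmul c t => rfl
    | add u v hu hv => rw [smul_add, map_add, map_add, smul_add, hu, hv]
  exact ⟨a • z, by rw [hlin, hz]⟩

end InS

end Groth.Agent.H9WE.BaseChange
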