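import Groth.Agent.H9WE.WeakDim
import Mathlib

/-!
Products of valuation rings, and the local characterisation of rings all whose ideals are flat.
-/

namespace Groth.Agent.H9WE

universe u

theorem idealsFlat_pi_valuationRing {ι : Type u} (A : ι → Type u) [∀ i, CommRing (A i)]
    [∀ i, IsDomain (A i)] [∀ i, ValuationRing (A i)] : IdealsFlat (∀ i, A i) := by
  classical
  refine idealsFlat_of_bezout (fun a b => ?_) fun c => ?_
  · have h : ∀ i, ∃ c x y : A i, c ∣ a i ∧ c ∣ b i ∧ c = x * a i + y * b i := fun i => by
      rcases ValuationRing.dvd_total (a i) (b i) with h | h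
      · exact ⟨a i, 1, 0, dvd_rfl, h, by rw [one_mul, zero_mul, add_zero]⟩
      · exact ⟨b i, 0, 1, h, dvd_rfl, by rw [one_mul, zero_mul, zero_add]⟩
    choose c x y ha hb hc using h
    choose p hp using ha
    choose q hq using hb
    exact ⟨c, x, y, ⟨p, funext hp⟩, ⟨q, funext hq⟩, funext hc⟩
  · let e : ∀ i, A i := fun i => if c i = 0 then 0 else 1
    have hce : c * e = c := funext fun i => by
      by_cases h : c i = 0 <;> simp [e, h]
    have hee : e * e = e := funext fun i => by
      by_cases h : c i = 0 <;> simp [e, h]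
    let φ : (∀ i, A i) →ₗ[∀ i, A i] Ideal.span {c} :=
      (LinearMap.toSpanSingleton _ _ c).codRestrict _ fun r => Ideal.mem_span_singleton.mpr ⟨r, mul_comm _ _⟩
    -- `span {c}` is a direct summand of the free module
    let P := LinearMap.range (LinearMap.toSpanSingleton (∀ i, A i) (∀ i, A i) e)
    have hP : Module.Projective (∀ i, A i) P := by
      refine Module.Projective.of_split P.subtype (LinearMap.toSpanSingleton (∀ i, A i) (∀ i, A i) e).rangeRestrict ?_
      refine LinearMap.ext fun ⟨p, r, hr⟩ => Subtype.ext ?_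
      show p • e = p
      rw [← hr]
      show (r * e) * e = r * e
      rw [mul_assoc, hee]
    let ψ := φ ∘ₗ P.subtype
    have hψ : Function.Bijective ψ := by
      refine ⟨(injective_iff_map_eq_zero ψ).mpr ?_, fun ⟨z, hz⟩ => ?_⟩
      · rintro ⟨p, r, rfl⟩ h
        have h1 : (r * e) * c = 0 := congrArg Subtype.val h
        refine Subtype.ext (funext fun i => ?_)
        show (r * e) i = 0
        by_cases hi : c i = 0
        · simp [e, hi]
        · exact (mul_eq_zero.mp (congrFun h1 i)).resolve_right hi
      · obtain ⟨r, hr⟩ := Ideal.mem_span_singleton'.mp hz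
        refine ⟨⟨r * e, r, rfl⟩, Subtype.ext ?_⟩
        show (r * e) * c = z
        rw [mul_assoc, mul_comm e c, hce, hr]
    exact Module.Flat.of_linearEquiv (LinearEquiv.ofBijective ψ hψ).symm

theorem isLocalization_pi_fractionRing {ι : Type u} (A : ι → Type u) [∀ i, CommRing (A i)]
    [∀ i, IsDomain (A i)] (K : ι → Type u) [∀ i, Field (K i)]
    [∀ i, Algebra (A i) (K i)] [∀ i, IsFractionRing (A i) (K i)] :
    IsLocalization (nonZeroDivisors (∀ i, A i)) (∀ i, K i) := by
  classical
  have hmem : ∀ s : ∀ i, A i, s ∈ nonZeroDivisors (∀ i, A i) ↔ ∀ i, s i ≠ 0 := by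
    refine fun s => ⟨fun h i hi => ?_, fun h => mem_nonZeroDivisors_iff_right.mpr fun z hz => ?_⟩
    · have h1 : Pi.single i (1 : A i) = 0 := by
        refine mem_nonZeroDivisors_iff_right.mp h _ (funext fun j => ?_)
        by_cases hj : j = i
        · subst hj; simp [hi]
        · simp [Pi.single_eq_of_ne hj]
      exact one_ne_zero ((Pi.single_eq_same i (1 : A i)).symm.trans (congrFun h1 i))
    · exact funext fun i => (mul_eq_zero.mp (congrFun hz i)).resolve_right (h i)
  refine ⟨fun s => ?_, fun l => ?_, fun {x y} h => ⟨1, ?_⟩⟩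
  · exact Pi.isUnit_iff.mpr fun i => isUnit_iff_ne_zero.mpr
      ((map_ne_zero_iff _ (IsFractionRing.injective (A i) (K i))).mpr ((hmem s).mp s.2 i))
  · have h : ∀ i, ∃ a b : A i, b ≠ 0 ∧ l i * algebraMap (A i) (K i) b = algebraMap (A i) (K i) a :=
      fun i => by
      obtain ⟨⟨a, b⟩, hab⟩ := IsLocalization.surj (nonZeroDivisors (A i)) (l i)
      exact ⟨a, b, nonZeroDivisors.ne_zero b.2, hab⟩
    choose a b hb hab using h
    exact ⟨⟨a, b, (hmem b).mpr hb⟩, funext hab⟩
  · rw [show x = y from funext fun i => IsFractionRing.injective (A i) (K i) (congrFun h i)]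

theorem isDomain_and_valuationRing_of_idealsFlat (S : Type u) [CommRing S] [IsLocalRing S]
    (h : IdealsFlat S) : ∃ _ : IsDomain S, ValuationRing S := by
  have hfree : ∀ J : Ideal S, J.FG → Module.Free S J := fun J hJ =>
    have := h J
    have : Module.Finite S J := Module.Finite.of_fg hJ
    Module.free_of_flat_of_isLocalRing
  have hdom : IsDomain S := by
    have : NoZeroDivisors S := ⟨fun {a b} hab => by
      by_contra! hc
      have := hfree (Ideal.span {a}) ⟨{a}, by simp⟩
      let x : Ideal.span {a} := ⟨a, Ideal.mem_span_singleton_self a⟩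
      let bs := Module.Free.chooseBasis S (Ideal.span {a})
      have hx : b • x = 0 := Subtype.ext (show b * a = 0 from (mul_comm b a).trans hab)
      have hann : ∀ y : Ideal.span {a}, b • y = 0 := fun ⟨y, hy⟩ => by
        obtain ⟨r, rfl⟩ := Ideal.mem_span_singleton'.mp hy
        exact Subtype.ext (show b * (r * a) = 0 by rw [mul_left_comm, mul_comm b a, hab, mul_zero])
      rcases isEmpty_or_nonempty (Module.Free.ChooseBasisIndex S (Ideal.span {a})) with he | ⟨⟨i⟩⟩
      · have : Subsingleton (Ideal.span {a}) := bs.repr.toEquiv.subsingleton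
        exact hc.1 (congrArg Subtype.val (Subsingleton.elim x 0))
      · have := congrArg (fun z => bs.repr z i) (hann (bs i))
        simp only [map_smul, Module.Basis.repr_self, Finsupp.smul_single, smul_eq_mul, mul_one,
          Finsupp.single_eq_same, map_zero, Finsupp.coe_zero, Pi.zero_apply] at this
        exact hc.2 this⟩
    exact NoZeroDivisors.to_isDomain S
  refine ⟨hdom, ValuationRing.iff_dvd_total.mpr ⟨fun a b => ?_⟩⟩
  classical
  have := hfree (Ideal.span {a, b}) ⟨{a, b}, by simp⟩
  have : Module.Finite S (Ideal.span {a, b}) := Module.Finite.of_fg ⟨{a, b}, by simp⟩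
  let bs := Module.Free.chooseBasis S (Ideal.span {a, b})
  have hsub : Subsingleton (Module.Free.ChooseBasisIndex S (Ideal.span {a, b})) := by
    refine ⟨fun i j => by_contra fun hij => ?_⟩
    have h1 := congrArg (fun z => bs.repr z i)
      (show ((bs j : S)) • bs i = ((bs i : S)) • bs j from Subtype.ext (mul_comm _ _))
    simp only [map_smul, Module.Basis.repr_self, Finsupp.smul_single, smul_eq_mul, mul_one,
      Finsupp.single_eq_same, Finsupp.single_eq_of_ne hij] at h1
    exact bs.ne_zero j (Subtype.ext h1)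
  obtain ⟨c, hc⟩ : ∃ c, Ideal.span {a, b} = Ideal.span {c} := by
    rcases isEmpty_or_nonempty (Module.Free.ChooseBasisIndex S (Ideal.span {a, b})) with he | ⟨⟨i⟩⟩
    · have : Subsingleton (Ideal.span {a, b}) := bs.repr.toEquiv.subsingleton
      refine ⟨0, le_antisymm (fun y hy => ?_) (by simp)⟩
      rw [show y = 0 from congrArg Subtype.val (Subsingleton.elim (⟨y, hy⟩ : Ideal.span {a, b}) 0)]
      exact zero_mem _
    · refine ⟨bs i, le_antisymm (fun y hy => Ideal.mem_span_singleton'.mpr ⟨bs.repr ⟨y, hy⟩ i, ?_⟩)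
        ((Ideal.span_singleton_le_iff_mem _).mpr (bs i).2)⟩
      have := bs.sum_repr ⟨y, hy⟩
      rw [Fintype.sum_subsingleton _ i] at this
      exact congrArg Subtype.val this
  obtain ⟨p, hp⟩ := Ideal.mem_span_singleton'.mp (hc ▸ Ideal.subset_span (by simp) : a ∈ Ideal.span {c})
  obtain ⟨q, hq⟩ := Ideal.mem_span_singleton'.mp (hc ▸ Ideal.subset_span (by simp) : b ∈ Ideal.span {c})
  obtain ⟨x, y, hxy⟩ := Ideal.mem_span_pair.mp (hc.symm ▸ Ideal.mem_span_singleton_self c : c ∈ Ideal.span {a, b})
  by_cases hc0 : c = 0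
  · exact Or.inl ⟨0, by rw [← hq, hc0, mul_zero, mul_zero]⟩
  have h1 : x * p + y * q = 1 := by
    refine mul_right_cancel₀ hc0 ?_
    linear_combination hxy + x * hp + y * hq
  rcases IsLocalRing.isUnit_or_isUnit_of_add_one h1 with hu | hu
  · obtain ⟨v, hv⟩ := (isUnit_of_mul_isUnit_right hu).exists_left_inv
    exact Or.inl ⟨q * v, by linear_combination (-1 : S) * hq + (-(q * v)) * (-hp) - q * c * hv⟩
  · obtain ⟨v, hv⟩ := (isUnit_of_mul_isUnit_right hu).exists_left_inv
    exact Or.inr ⟨p * v, by linear_combination (-1 : S) * hp + (-(p * v)) * (-hq) - p * c * hv⟩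

theorem IdealsFlat.localization {A : Type u} [CommRing A] (h : IdealsFlat A) (p : Ideal A) [p.IsPrime] :
    IdealsFlat (Localization.AtPrime p) := fun J => by
  have : Module.Flat A (Localization.AtPrime p) := IsLocalization.flat _ p.primeCompl
  rw [Module.flat_iff_of_isLocalization (Localization.AtPrime p) p.primeCompl]
  exact h.flat_of_injective ((Submodule.subtype J).restrictScalars A) Subtype.val_injective

theorem idealsFlat_of_fg {A : Type u} [CommRing A]
    (h : ∀ I : Ideal A, I.FG → Module.Flat A I) : IdealsFlat A := fun I => by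
  classical
  refine Module.Flat.iff_forall_isTrivialRelation.mpr fun {l} f x hfx => ?_
  let J : Ideal A := Ideal.span (Set.range fun i => (x i : A))
  have hle : J ≤ I := Ideal.span_le.mpr (Set.range_subset_iff.mpr fun i => (x i).2)
  have := h J ⟨Finset.univ.image fun i => (x i : A), by simp [J]⟩
  let x' : Fin l → J := fun i => ⟨x i, Ideal.subset_span ⟨i, rfl⟩⟩
  have h0 : ∑ i, f i • x' i = 0 := Subtype.ext (by
    simpa [x'] using congrArg Subtype.val hfx)
  obtain ⟨k, a, y, hy, ha⟩ := Module.Flat.iff_forall_isTrivialRelation.mp inferInstance h0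
  refine ⟨k, a, fun j => Submodule.inclusion hle (y j), fun i => Subtype.ext ?_, ha⟩
  have := congrArg Subtype.val (hy i)
  simpa [x'] using this

theorem idealsFlat_of_localization {A : Type u} [CommRing A]
    (h : ∀ (p : Ideal A) [p.IsPrime], ∃ _ : IsDomain (Localization.AtPrime p),
      ValuationRing (Localization.AtPrime p)) : IdealsFlat A := fun I => by
  refine Module.flat_of_isLocalized_maximal A I
    (fun P _ => I.localized' (Localization.AtPrime P) P.primeCompl (Algebra.linearMap A (Localization.AtPrime P)))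
    (fun P _ => I.toLocalized' (Localization.AtPrime P) P.primeCompl (Algebra.linearMap A (Localization.AtPrime P)))
    fun P hP => ?_
  obtain ⟨_, _⟩ := h P
  have : Module.Flat A (Localization.AtPrime P) := IsLocalization.flat _ P.primeCompl
  have : Module.Flat (Localization.AtPrime P)
      (I.localized' (Localization.AtPrime P) P.primeCompl (Algebra.linearMap A (Localization.AtPrime P))) :=
    Module.Flat.flat_iff_torsion_eq_bot_of_isBezout.mpr
      (Submodule.isTorsionFree_iff_torsion_eq_bot.mp inferInstance)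
  exact Module.Flat.trans A (Localization.AtPrime P) _

end Groth.Agent.H9WE
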