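import Groth.Agent.S1997
import Groth.Agent.S7131
import Mathlib.RingTheory.Valuation.LocalSubring
import Mathlib.RingTheory.Localization.Basic
import Mathlib.RingTheory.Flat.Localization

/-!
Rings all whose ideals are flat (weak dimension at most one), and products of valuation rings.
-/

set_option linter.style.haveILetI false

universe u

namespace Groth.Agent.H9WE

open TensorProduct

/-- All ideals are flat. -/
def IdealsFlat (R : Type u) [CommRing R] : Prop := ∀ I : Ideal R, Module.Flat R I

theorem IdealsFlat.flat_of_injective {R : Type u} [CommRing R] (h : IdealsFlat R) {M N : Type u}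
    [AddCommGroup M] [Module R M] [AddCommGroup N] [Module R N] [Module.Flat R N] (f : M →ₗ[R] N)
    (hf : Function.Injective f) : Module.Flat R M :=
  Module.Flat.iff_lTensor_injective'.mpr fun I => by
    haveI := h I
    refine Function.Injective.of_comp (f := LinearMap.rTensor R f) ?_
    rw [← LinearMap.coe_comp, show LinearMap.rTensor R f ∘ₗ LinearMap.lTensor M I.subtype =
      LinearMap.lTensor N I.subtype ∘ₗ LinearMap.rTensor I f from TensorProduct.ext' fun s i => rfl]
    exact (Module.Flat.lTensor_preserves_injective_linearMap I.subtype Subtype.val_injective).comp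
      (Module.Flat.rTensor_preserves_injective_linearMap f hf)

open H8Props.PseudoCoh in
theorem IdealsFlat.hasTorDimLE_one {R : Type u} [CommRing R] (h : IdealsFlat R) (M : Type u)
    [AddCommGroup M] [Module R M] : DRing.HasTorDimLE R 1 M :=
  (hasTorDimLE_succ_iff (Finsupp.linearCombination R (id : M → M)) (exists_free_surjective M)).mpr
    (hasTorDimLE_zero_iff.mpr (h.flat_of_injective (Submodule.subtype _) Subtype.val_injective))

open H8Props.PseudoCoh in
theorem idealsFlat_of_hasTorDimLE_one {R : Type u} [CommRing R]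
    (h : ∀ (M : Type u) [AddCommGroup M] [Module R M], DRing.HasTorDimLE R 1 M) : IdealsFlat R := fun I => by
  haveI : Module.Flat R (LinearMap.ker (Submodule.mkQ I)) :=
    hasTorDimLE_zero_iff.mp ((hasTorDimLE_succ_iff (Submodule.mkQ I) (Submodule.mkQ_surjective I)).mp (h (R ⧸ I)))
  exact Module.Flat.of_linearEquiv (LinearEquiv.ofEq _ _ (Submodule.ker_mkQ I).symm)

theorem IdealsFlat.of_weaklyEtale {A B : Type u} [CommRing A] [CommRing B] [Algebra A B]
    [Algebra.WeaklyEtale A B] (h : IdealsFlat A) : IdealsFlat B :=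
  idealsFlat_of_hasTorDimLE_one fun N _ _ => S7131.result A B 1 (fun M _ _ => h.hasTorDimLE_one M) N

theorem idealsFlat_of_bezout {R : Type u} [CommRing R]
    (hb : ∀ a b : R, ∃ c x y : R, c ∣ a ∧ c ∣ b ∧ c = x * a + y * b)
    (hann : ∀ c : R, Module.Flat R (Ideal.span {c})) : IdealsFlat R := fun I => by
  classical
  refine Module.Flat.iff_forall_isTrivialRelation.mpr fun {l} f x hfx => ?_
  have hgen : ∀ s : Finset R, (∀ a ∈ s, a ∈ I) → ∃ c ∈ I, ∀ a ∈ s, c ∣ a := fun s => by
    induction s using Finset.induction with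
    | empty => exact fun _ => ⟨0, zero_mem _, by simp⟩
    | insert a s _ ih =>
      intro hs
      obtain ⟨c, hc, hcs⟩ := ih fun b hb' => hs b (Finset.mem_insert_of_mem hb')
      obtain ⟨d, p, q, hda, hdc, hd⟩ := hb a c
      exact ⟨d, hd ▸ add_mem (I.mul_mem_left p (hs a (Finset.mem_insert_self a s))) (I.mul_mem_left q hc),
        fun b hb' => (Finset.mem_insert.mp hb').elim (fun e => e ▸ hda) fun h => hdc.trans (hcs b h)⟩
  obtain ⟨c, hc, hcx⟩ := hgen (Finset.univ.image fun i => (x i : R)) (fun a ha => by
    obtain ⟨i, -, rfl⟩ := Finset.mem_image.mp ha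
    exact (x i).2)
  let x' : Fin l → Ideal.span {c} := fun i =>
    ⟨x i, Ideal.mem_span_singleton.mpr (hcx _ (Finset.mem_image_of_mem _ (Finset.mem_univ i)))⟩
  haveI := hann c
  have h0 : ∑ i, f i • x' i = 0 := Subtype.ext (by
    simpa [x'] using congrArg Subtype.val hfx)
  obtain ⟨k, a, y, hy, ha⟩ := Module.Flat.iff_forall_isTrivialRelation.mp inferInstance h0
  have hle : Ideal.span {c} ≤ I := (Ideal.span_singleton_le_iff_mem I).mpr hc
  refine ⟨k, a, fun j => Submodule.inclusion hle (y j), fun i => Subtype.ext ?_, ha⟩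
  have := congrArg Subtype.val (hy i)
  simpa [x'] using this

variable {K : Type u} [Field K] {ι : Type u} (W : ι → ValuationSubring K)

theorem idealsFlat_pi_valuationSubring : IdealsFlat (∀ i, W i) := by
  classical
  refine idealsFlat_of_bezout (fun a b => ?_) fun c => ?_
  · have h : ∀ i, ∃ c x y : W i, c ∣ a i ∧ c ∣ b i ∧ c = x * a i + y * b i := fun i => by
      rcases ValuationRing.dvd_total (a i) (b i) with h | h
      · exact ⟨a i, 1, 0, dvd_rfl, h, by rw [one_mul, zero_mul, add_zero]⟩
      · exact ⟨b i, 0, 1, h, dvd_rfl, by rw [one_mul, zero_mul, zero_add]⟩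
    choose c x y ha hb hc using h
    choose p hp using ha
    choose q hq using hb
    exact ⟨c, x, y, ⟨p, funext hp⟩, ⟨q, funext hq⟩, funext hc⟩
  · let e : ∀ i, W i := fun i => if c i = 0 then 0 else 1
    have hce : c * e = c := funext fun i => by
      by_cases h : c i = 0 <;> simp [e, h]
    have hee : e * e = e := funext fun i => by
      by_cases h : c i = 0 <;> simp [e, h]
    let φ : (∀ i, W i) →ₗ[∀ i, W i] Ideal.span {c} :=
      (LinearMap.toSpanSingleton _ _ c).codRestrict _ fun r => Ideal.mem_span_singleton.mpr ⟨r, mul_comm _ _⟩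
    -- `span {c}` is a direct summand of the free module
    let P := LinearMap.range (LinearMap.toSpanSingleton (∀ i, W i) (∀ i, W i) e)
    have hP : Module.Projective (∀ i, W i) P := by
      refine Module.Projective.of_split P.subtype (LinearMap.toSpanSingleton (∀ i, W i) (∀ i, W i) e).rangeRestrict ?_
      refine LinearMap.ext fun ⟨p, r, hr⟩ => Subtype.ext ?_
      show p • e = p
      rw [← hr]
      show (r * e) * e = r * e
      rw [mul_assoc, hee]
    let ψ := φ ∘ₗ P.subtype
    have hψ : Function.Bijective ψ := by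
      refine ⟨(injective_iff_map_eq_zero ψ).mpr ?_, fun ⟨z, hz⟩ => ?_⟩
      · rintro ⟨p, r, rfl⟩ h
        have h1 : (r * e) * c = 0 := congrArg Subtype.val h
        refine Subtype.ext (funext fun i => ?_)
        show (r * e) i = 0
        by_cases hi : c i = 0
        · simp [e, hi]
        · exact (mul_eq_zero.mp (congrFun h1 i)).resolve_right hi
      · obtain ⟨r, hr⟩ := Ideal.mem_span_singleton'.mp hz
        refine ⟨⟨r * e, r, rfl⟩, Subtype.ext ?_⟩
        show (r * e) * c = z
        rw [mul_assoc, mul_comm e c, hce, hr]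
    exact Module.Flat.of_linearEquiv (LinearEquiv.ofBijective ψ hψ).symm

/-- The inclusion of a product of valuation rings into the power of the field. -/
def piInclusion : (∀ i, W i) →+* (ι → K) :=
  RingHom.pi fun i => (W i).subtype.comp (Pi.evalRingHom (fun i => W i) i)

theorem piInclusion_injective : Function.Injective (piInclusion W) := fun a b h =>
  funext fun i => Subtype.ext (congrFun h i)

theorem piInclusion_flat_epi : (piInclusion W).Flat ∧
    CategoryTheory.Epi (CommRingCat.ofHom (piInclusion W)) := by
  classical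
  rw [show piInclusion W = algebraMap (∀ i, W i) (ι → K) from rfl]
  let S : Submonoid (∀ i, W i) :=
    { carrier := {s | ∀ i, (s i : K) ≠ 0}
      one_mem' := fun i => by simp
      mul_mem' := fun {a b} ha hb i => by simpa using mul_ne_zero (ha i) (hb i) }
  haveI : IsLocalization S (ι → K) := by
    refine ⟨fun s => ?_, fun l => ?_, fun {x y} h => ⟨1, by rw [piInclusion_injective W h]⟩⟩
    · exact isUnit_iff_exists_inv.mpr ⟨fun i => ((s : ∀ i, W i) i : K)⁻¹, funext fun i => mul_inv_cancel₀ (s.2 i)⟩
    · have h : ∀ i, ∃ a b : W i, (b : K) ≠ 0 ∧ l i * (b : K) = a := fun i => by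
        rcases (W i).mem_or_inv_mem (l i) with h | h
        · exact ⟨⟨l i, h⟩, 1, by simp, by simp⟩
        · by_cases h0 : l i = 0
          · exact ⟨0, 1, by simp, by simp [h0]⟩
          · exact ⟨1, ⟨(l i)⁻¹, h⟩, inv_ne_zero h0, by simp [mul_inv_cancel₀ h0]⟩
      choose a b hb hab using h
      exact ⟨⟨a, b, hb⟩, funext hab⟩
  refine ⟨RingHom.flat_algebraMap_iff.mpr (IsLocalization.flat (ι → K) S), ⟨fun φ ψ h => ?_⟩⟩
  refine CommRingCat.hom_ext (IsLocalization.ringHom_ext S ?_)
  exact congrArg CommRingCat.Hom.hom h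

theorem exists_unique_of_forall_mem {A : Type u} [CommRing A] [IsDomain A] [Algebra A K] [IsFractionRing A K]
    [IsIntegrallyClosed A] {k : K}
    (h : ∀ V : ValuationSubring K, Set.range (algebraMap A K) ⊆ V.toSubring → k ∈ V) :
    ∃! a : A, algebraMap A K a = k := by
  have h1 : k ∈ (⨅ V : {V : ValuationSubring K // Set.range (algebraMap A K) ⊆ V.toSubring},
      V.1.toSubring) := Subring.mem_iInf.mpr fun V => h V.1 V.2
  rw [iInf_valuationSubring_superset, show Subring.closure (Set.range (algebraMap A K)) = (algebraMap A K).range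
    from (congrArg Subring.closure (RingHom.coe_range (algebraMap A K)).symm).trans (Subring.closure_eq _)] at h1
  let R' := (algebraMap A K).range
  letI : Algebra A R' := (algebraMap A K).rangeRestrict.toAlgebra
  haveI : IsScalarTower A R' K := IsScalarTower.of_algebraMap_eq fun _ => rfl
  haveI : Algebra.IsIntegral A R' :=
    ⟨fun x => by obtain ⟨a, rfl⟩ := (algebraMap A K).rangeRestrict_surjective x; exact isIntegral_algebraMap⟩
  obtain ⟨a, ha⟩ := IsIntegrallyClosed.isIntegral_iff.mp (isIntegral_trans (R := A) (A := R') k h1)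
  exact ⟨a, ha, fun b hb => IsFractionRing.injective A K (hb.trans ha.symm)⟩

end Groth.Agent.H9WE
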